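import Cfsg.Agent.H10.Fi23T.G9.RTab

set_option autoImplicit false
set_option linter.all false

namespace Cfsg.Agent.H10.Fi23T

open Cfsg.Agent.H35 Cfsg.Spor

theorem g9_rchk_32 : allR g9_rf 38947 10 (32 * 2 ^ 10) = true := by decide +kernel
theorem g9_rchk_33 : allR g9_rf 38947 10 (33 * 2 ^ 10) = true := by decide +kernel

end Cfsg.Agent.H10.Fi23T
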