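import Cfsg.Agent.H10.Fi23T.G9.RChk0
import Cfsg.Agent.H10.Fi23T.G9.RChk1
import Cfsg.Agent.H10.Fi23T.G9.RChk2
import Cfsg.Agent.H10.Fi23T.G9.RChk3
import Cfsg.Agent.H10.Fi23T.G9.RChk4
import Cfsg.Agent.H10.Fi23T.G9.RChk5
import Cfsg.Agent.H10.Fi23T.G9.RChk6
import Cfsg.Agent.H10.Fi23T.G9.RChk7
import Cfsg.Agent.H10.Fi23T.G9.RChk8
import Cfsg.Agent.H10.Fi23T.G9.RChk9
import Cfsg.Agent.H10.Fi23T.G9.RChk10
import Cfsg.Agent.H10.Fi23T.G9.RChk11
import Cfsg.Agent.H10.Fi23T.G9.RChk12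
import Cfsg.Agent.H10.Fi23T.G9.RChk13
import Cfsg.Agent.H10.Fi23T.G9.RChk14
import Cfsg.Agent.H10.Fi23T.G9.RChk15
import Cfsg.Agent.H10.Fi23T.G9.RChk16
import Cfsg.Agent.H10.Fi23T.G9.RChk17
import Cfsg.Agent.H10.Fi23T.G9.RChk18
import Cfsg.Agent.H10.Fi23T.G9.RChk19

set_option autoImplicit false
set_option linter.all false

namespace Cfsg.Agent.H10.Fi23T

open Cfsg.Agent.H35 Cfsg.Spor

theorem g9_rall : ∀ p, p < 38947 → g9_rf p = true := by
  apply allR_blocks g9_rf 38947 10 39 _ (by decide)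
  intro k hk
  interval_cases k
  · exact g9_rchk_0
  · exact g9_rchk_1
  · exact g9_rchk_2
  · exact g9_rchk_3
  · exact g9_rchk_4
  · exact g9_rchk_5
  · exact g9_rchk_6
  · exact g9_rchk_7
  · exact g9_rchk_8
  · exact g9_rchk_9
  · exact g9_rchk_10
  · exact g9_rchk_11
  · exact g9_rchk_12
  · exact g9_rchk_13
  · exact g9_rchk_14
  · exact g9_rchk_15
  · exact g9_rchk_16
  · exact g9_rchk_17
  · exact g9_rchk_18
  · exact g9_rchk_19
  · exact g9_rchk_20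
  · exact g9_rchk_21
  · exact g9_rchk_22
  · exact g9_rchk_23
  · exact g9_rchk_24
  · exact g9_rchk_25
  · exact g9_rchk_26
  · exact g9_rchk_27
  · exact g9_rchk_28
  · exact g9_rchk_29
  · exact g9_rchk_30
  · exact g9_rchk_31
  · exact g9_rchk_32
  · exact g9_rchk_33
  · exact g9_rchk_34
  · exact g9_rchk_35
  · exact g9_rchk_36
  · exact g9_rchk_37
  · exact g9_rchk_38

theorem g9_circ_ok : circChk (fullW g9_rws g9_prels) g9_circT 0 g9_ccert = true := by decide +kernel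
theorem g9_hc_ok : allR (fun c => hcChk g9_rsw g9_hc1T g9_hc2T c) 8 3 0 = true := by decide +kernel
theorem g9_h0 : RData.aord (g9_rd.ent 0 1) = 0 := by decide +kernel

end Cfsg.Agent.H10.Fi23T
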